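import Cfsg.Agent.Spor.Ly3906.Z.D0

set_option autoImplicit false
set_option maxRecDepth 100000000
set_option Elab.async false

namespace Cfsg.Agent.Spor.Ly3906.Z

theorem gr3 : sub M2 (U.growI W1 [3, 2, 0, 0, 2] (Nat.shiftLeft 1 0)) = true := by decide +kernel

theorem gr6 : sub M5 (U.growI W1 [0, 1, 2, 3, 2, 1, 0, 1, 3, 1] (Nat.shiftLeft 1 633)) = true := by decide +kernel

theorem sd8 : U.sends [7, 5, 4, 2, 7, 6] 0 633 = true := by decide +kernel

theorem fx : U.fixIn 12 3906 [1, 1, 1, 1] (Nat.lor M2 M5) = true := by decide +kernel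

end Cfsg.Agent.Spor.Ly3906.Z
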