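import Cfsg.Agent.Spor.Prim
import Cfsg.Agent.Spor.Ly3906.Main
import Cfsg.Agent.Spor.Ly3906.Z.C0
import Cfsg.Agent.Spor.PX6
import Cfsg.Agent.Spor.Ly3906.Grp

set_option autoImplicit false
set_option maxRecDepth 100000000
set_option Elab.async false

namespace Cfsg.Agent.Spor.Ly3906.Z

theorem hU : U.Ok 12 := U.ok_of 12 (show AllP (fun n => Net.okb 12 n = true) [n0, n1, n2, n3, n4, n5, n6, n7, n8] from AllP.cons ok0 (AllP.cons ok1 (AllP.cons ok2 (AllP.cons ok3 (AllP.cons ok4 (AllP.cons ok5 (AllP.cons ok6 (AllP.cons ok7 (AllP.cons ok8 (AllP.nil))))))))))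

theorem reach4 : Reach (U.lsub W1) 0 M2 := (Reach.grow hU (Reach.base _ 0) gr3)
theorem reach7 : Reach (U.lsub W1) 633 M5 := (Reach.grow hU (Reach.base _ 633) gr6)
theorem bound : Bound 4 0 RL 5859000000 := Ly3906.bound
theorem link : U.Link (MonoidHom.id _) (atm 4 fP) (2 * 4) :=
  Tab.Link.of (fun j hj => by interval_cases j <;> rfl) (by decide +kernel)
theorem cent {G : Type} [Group G] {f : ℕ → G} (hf : Pres 4 0 RL f) (hc : 5859000000 ∣ Nat.card (gsub 4 f))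
    {K : Subgroup G} (hS : wsub 4 f [[0], [2], [5, 1, 5, 0, 4, 1, 4, 0], [6]] ≤ K) (hz : ev (atm 4 f) [0, 0, 0, 0] ∈ wsub 4 f BW)
    (hK : ∀ x ∈ K, x * ev (atm 4 f) [0, 0, 0, 0] = ev (atm 4 f) [0, 0, 0, 0] * x)
    (hH : ∀ x ∈ wsub 4 f BW, x * ev (atm 4 f) [0, 0, 0, 0] = ev (atm 4 f) [0, 0, 0, 0] * x → x ∈ K)
    (hb : ∀ x ∈ wsub 4 f BW, x * ev (atm 4 f) [0, 0, 0, 0] * x⁻¹ ≠ (ev (atm 4 f) [5, 6, 1, 3, 4, 6])⁻¹ * ev (atm 4 f) [0, 0, 0, 0] * ev (atm 4 f) [5, 6, 1, 3, 4, 6]) :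
    ∀ x ∈ gsub 4 f, x * ev (atm 4 f) [0, 0, 0, 0] = ev (atm 4 f) [0, 0, 0, 0] * x → x ∈ K :=
  cert.cent bound (by norm_num) hf hc hU link (gw := [5, 6, 1, 3, 4, 6]) (p1 := 633) (W := W1) (by decide +kernel) hS hz hK hH fx reach4
    (Or.inr ⟨(hU.sends sd8), reach7, hb⟩)

end Cfsg.Agent.Spor.Ly3906.Z
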